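import Cfsg.Agent.H606.PQR.Pieces_m3
import Cfsg.Prelude.Def_SporadicB
import Cfsg.Agent.S1684
import Cfsg.Agent.S1686
import Cfsg.Agent.S1696
import Cfsg.Agent.S0280
import Cfsg.Agent.S0283
import Cfsg.Agent.S0292
import Cfsg.Agent.S0295
import Cfsg.Agent.Prune
set_option linter.all false

-- part: H517/PQR/Tools
section
set_option linter.all false
open scoped Cfsg.Agent.FastGrp

set_option autoImplicit false

/-!
# S3988 (helper517): tools for the rows of `Fi22` and `Fi23`
-/

namespace Cfsg.Agent.H517.PQR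

open Cfsg.Agent.H562.PQR

universe u v w

theorem exists_ncomm {T : Type w} [Group T] [Finite T] [IsSimpleGroup T] (h : ¬ (Nat.card T).Prime) :
    ∃ x y : T, x * y ≠ y * x := by
  by_contra hcon
  push Not at hcon
  apply h
  let _ : CommGroup T := { (inferInstance : Group T) with mul_comm := hcon }
  exact IsSimpleGroup.prime_card

/-- a proper subgroup which is a double cover of a simple group -/
theorem notMin_of_cover {S : Type v} [Group S] [Finite S] {T : Type w} [Group T] [Finite T] [IsSimpleGroup T]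
    (hT : ¬ (Nat.card T).Prime) {H : Subgroup S} (h : Cfsg.IsNonsplitDoubleCover H T) {p : ℕ} (hp : p.Prime)
    (hd : p ∣ Nat.card T) (hlt : 2 * Nat.card T < Nat.card S) : NotMin p S := by
  obtain ⟨h1, ⟨e⟩, -⟩ := h
  have hcard : Nat.card H = 2 * Nat.card T := by
    rw [← h1, ← Nat.card_congr e.toEquiv, mul_comm]
    exact Subgroup.card_eq_card_quotient_mul_card_subgroup _
  refine NotMin.of_hom_lt (exists_ncomm hT) hp hd H.subtype
    (e.toMonoidHom.comp (QuotientGroup.mk' (Subgroup.center H)))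
    (e.surjective.comp (QuotientGroup.mk'_surjective _)) ?_ (by rw [hcard]; exact hlt)
  intro x hx
  have h2 : x = 1 := Subtype.ext hx
  rw [h2]
  exact one_mem _

/-- a proper subgroup which is simple -/
theorem notMin_of_equiv {S : Type v} [Group S] [Finite S] {T : Type w} [Group T] [Finite T] [IsSimpleGroup T]
    (hT : ¬ (Nat.card T).Prime) {H : Subgroup S} (e : H ≃* T) {p : ℕ} (hp : p.Prime)
    (hd : p ∣ Nat.card T) (hlt : Nat.card T < Nat.card S) : NotMin p S := by
  refine NotMin.of_hom_lt (exists_ncomm hT) hp hd H.subtype e.toMonoidHom e.surjective ?_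
    (by rw [Nat.card_congr e.toEquiv]; exact hlt)
  intro x hx
  have h2 : x = 1 := Subtype.ext hx
  rw [h2]
  exact one_mem _

end Cfsg.Agent.H517.PQR
end

-- part: H517/PQR/Fi22
section
set_option linter.all false
open scoped Cfsg.Agent.FastGrp

set_option autoImplicit false

/-!
# S3988 (helper517): the row of `Fi22`

`2.U6(2)` (S1684) for `3, 5, 7, 11` and `Ω7(3)` (S1686) for `13`.
-/

namespace Cfsg.Agent.H517.PQR

open Cfsg.Agent.H562.PQR

theorem card_psu {K : Type} [Field K] [Fintype K] (hK : Fintype.card K = 4) :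
    Nat.card (Cfsg.PSU 6 K 2) = 9196830720 := by
  have h := S0280.result (F := K) (q := 2) (by rw [hK]; norm_num) 6 (by norm_num)
  generalize Nat.card (Cfsg.PSU 6 K 2) = X at h ⊢
  simp only [Finset.prod_range_succ, Finset.prod_range_zero] at h
  norm_num [Nat.even_iff] at h
  omega

theorem card_omega : Nat.card (Cfsg.POmega (ZMod 3) (Cfsg.quadFormOdd 3 (ZMod 3))) = 4585351680 := by
  have h := S0292.result (F := ZMod 3) (q := 3) (by simp) (by decide) 3 (by norm_num)
  generalize Nat.card (Cfsg.POmega (ZMod 3) (Cfsg.quadFormOdd 3 (ZMod 3))) = X at h ⊢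
  simp only [Finset.prod_range_succ, Finset.prod_range_zero] at h
  norm_num at h
  omega

theorem fi22_primes {p : ℕ} (hp : p.Prime) (h : p ∣ 64561751654400) :
    p = 2 ∨ p = 3 ∨ p = 5 ∨ p = 7 ∨ p = 11 ∨ p = 13 := by
  rw [show 64561751654400 = 2 ^ 17 * 3 ^ 9 * 5 ^ 2 * 7 * 11 * 13 by norm_num, hp.dvd_mul, hp.dvd_mul, hp.dvd_mul,
    hp.dvd_mul, hp.dvd_mul] at h
  have key : ∀ {q : ℕ}, q.Prime → p ∣ q → p = q := fun hq h1 => (Nat.prime_dvd_prime_iff_eq hp hq).1 h1
  rcases h with ((((h | h) | h) | h) | h) | h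
  · exact Or.inl (key (by norm_num) (hp.dvd_of_dvd_pow h))
  · exact Or.inr (Or.inl (key (by norm_num) (hp.dvd_of_dvd_pow h)))
  · exact Or.inr (Or.inr (Or.inl (key (by norm_num) (hp.dvd_of_dvd_pow h))))
  · exact Or.inr (Or.inr (Or.inr (Or.inl (key (by norm_num) h))))
  · exact Or.inr (Or.inr (Or.inr (Or.inr (Or.inl (key (by norm_num) h)))))
  · exact Or.inr (Or.inr (Or.inr (Or.inr (Or.inr (key (by norm_num) h)))))

/-- **the row of `Fi22`** -/
theorem row_Fi22 : RowOdd Cfsg.Spor.Fi22 := by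
  have hcard := Cfsg.Agent.S1696.result.2
  have : Finite Cfsg.Spor.Fi22 := Nat.finite_of_card_ne_zero (by rw [hcard]; norm_num)
  intro p hp hp2 hd
  left
  rw [hcard] at hd
  have h1 : (p = 3 ∨ p = 5 ∨ p = 7 ∨ p = 11) → NotMin p Cfsg.Spor.Fi22 := by
    intro h
    obtain ⟨K, _, _, hK, hc⟩ := Cfsg.Agent.S1684.result
    have hcK := card_psu hK
    have : Finite (Cfsg.PSU 6 K 2) := inferInstance
    have : IsSimpleGroup (Cfsg.PSU 6 K 2) :=
      S0283.result (F := K) (q := 2) (by rw [hK]; norm_num) 6 (by norm_num) (by norm_num)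
    refine notMin_of_cover (by rw [hcK]; norm_num) hc hp ?_ (by rw [hcK, hcard]; norm_num)
    rw [hcK]
    rcases h with rfl | rfl | rfl | rfl <;> norm_num
  rcases fi22_primes hp hd with h | h | h | h | h | h
  · exact absurd h hp2
  · exact h1 (Or.inl h)
  · exact h1 (Or.inr (Or.inl h))
  · exact h1 (Or.inr (Or.inr (Or.inl h)))
  · exact h1 (Or.inr (Or.inr (Or.inr h)))
  · obtain ⟨e⟩ := Cfsg.Agent.S1686.result
    have : IsSimpleGroup (Cfsg.POmega (ZMod 3) (Cfsg.quadFormOdd 3 (ZMod 3))) :=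
      S0295.result (F := ZMod 3) (by simp; decide) 3 (by norm_num)
    have : Finite (Cfsg.POmega (ZMod 3) (Cfsg.quadFormOdd 3 (ZMod 3))) :=
      Nat.finite_of_card_ne_zero (by rw [card_omega]; norm_num)
    exact notMin_of_equiv (by rw [card_omega]; norm_num) e hp (by rw [card_omega, h]; norm_num)
      (by rw [card_omega, hcard]; norm_num)

end Cfsg.Agent.H517.PQR
end
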